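import Cfsg.Agent.Lib.O7.T1
import Cfsg.Agent.Lib.O7.F3
import Cfsg.Agent.Lib.O7.Hur
import Cfsg.Agent.Lib.O7.Ev
import Cfsg.Agent.Lib.Mathieu.Cx
import Cfsg.Agent.Lib.J1.Basic
import Cfsg.Agent.Lib.J2.Basic
import Cfsg.Agent.Lib.Ly.Main
import Cfsg.Agent.S0380
import Cfsg.Agent.S1702
import Cfsg.Agent.S2132
import Cfsg.Agent.S2135
import Cfsg.Prelude.Def_Spor_Mathieu
import Cfsg.Prelude.Def_Spor_Conway
import Cfsg.Prelude.Def_Spor_Ly
import Cfsg.Prelude.Def_Spor_J1
import Cfsg.Prelude.Def_Spor_J2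
import Cfsg.Prelude.Def_Spor_J3

/-!
# Sporadic groups (see `docs/O7.md`)
-/

set_option autoImplicit false

namespace Cfsg.Lib.O7

open QuadraticMap Module Matrix Cfsg.Lib.Orth
open scoped MatrixGroups

variable {K : Type*} [Field K] [IsAlgClosed K] {M : Subgroup (O (Q K))}

/-- `11 : 5` gives `11 = 0` (`t1_eleven`), `3² : Q₈` gives `3 = 0` (`t1_nine`).  (Lib.Q5A.Sm, Lib.Mathieu have the data.) -/
theorem Pre.no_M11 (h : Pre M) (e : Spor.IsoM11 M) : False := by
  obtain ⟨e⟩ := e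
  obtain ⟨γ, C⟩ := Mathieu.cx11 (D := [650637096153066191528378510017177152, 487006566180667501609709218912579616,
    984534996141977609297800625156032544, 487607080158395075740321133224921120, 424698032726113400716592269113985056,
    858988336336270505570052787752405024]) (by decide +kernel) []
  have k := C.weqs (l := [(List.replicate 11 0, []), ([1, 0], [0, 0, 0, 1]), ([2, 2, 2], []), ([2, 3], [3, 2]),
    ([4, 2], [3, 4]), ([2, 4, 3], [4]), ([5, 2], [2, 3, 5]), ([3, 5, 3], [2, 5])]) (by decide +kernel)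
  have n1 := C.wne (is := [0]) (js := []) (by decide +kernel)
  have n2 := C.wne (is := [2]) (js := []) (by decide +kernel)
  simp only [List.forall_mem_cons, List.replicate, Grp.wd_cons, Grp.wd_nil, mul_one, ← mul_assoc] at k n1 n2
  obtain ⟨k1, k2, k3, k4, k5, k6, k7, k8, -⟩ := k
  have c : Commute (γ 2) (γ 3) := k4
  have p1 := t1_eleven h.two (c := emb e (γ 0)) (x := emb e (γ 1))
    (by rw [← map_pow, show γ 0 ^ 11 = 1 by simpa only [pow_succ, pow_zero, one_mul] using k1, map_one])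
    ((map_ne_one_iff _ (emb_injective e)).2 n1) (.inl rfl)
    ((tor_map _ (t := γ 0 ^ 3) (mul_inv_eq_iff_eq_mul.2 (by simpa only [pow_succ, pow_zero, one_mul] using k2))).trans
      (map_pow _ _ _))
  have p2 := t1_nine h.two (a := emb e (γ 2)) (b := emb e (γ 3)) (x := emb e (γ 4)) (y := emb e (γ 5))
    (by rw [← map_pow, show γ 2 ^ 3 = 1 by simpa only [pow_succ, pow_zero, one_mul] using k3, map_one])
    ((map_ne_one_iff _ (emb_injective e)).2 n2) (c.map _) (tor_map _ (mul_inv_eq_iff_eq_mul.2 k5))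
    ((tor_map _ (t := (γ 2)⁻¹) (by rw [mul_inv_eq_iff_eq_mul, eq_inv_mul_iff_mul_eq, ← mul_assoc, k6])).trans (map_inv _ _))
    ((tor_map _ (mul_inv_eq_iff_eq_mul.2 k7)).trans (map_mul _ _ _))
    ((tor_map _ (t := γ 2 * (γ 3)⁻¹) (by
      rw [mul_inv_eq_iff_eq_mul, c.inv_right.eq, mul_assoc, eq_inv_mul_iff_mul_eq, ← mul_assoc, k8])).trans
      (by rw [map_mul, map_inv]))
  exact one_ne_zero (α := K) (by linear_combination 4 * p2 - p1)

/-- `M11 ≤ M12`, `Pre.sub`. -/
theorem Pre.no_M12 (h : Pre M) (e : Spor.IsoM12 M) : False := by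
  obtain ⟨M', h', e'⟩ := h.sub e.some
    (Subgroup.inclusion_injective (show Spor.M11 ≤ Spor.M12 from inf_le_left))
  exact h'.no_M11 e'

set_option linter.unusedSectionVars false in
/-- `L₃(4) ≤ M22` (S0380) and `Pre.no_L34`; or `11 : 5` and `3² : Q₈`; or an `E₁₆` and one class of involutions. -/
theorem Pre.no_M22 (h : Pre M) (e : Spor.IsoM22 M) : False := by
  have : Fact (Nat.Prime 2) := Nat.fact_prime_two
  have := Fintype.ofFinite (GaloisField 2 2)
  have c : Fintype.card (GaloisField 2 2) = 4 := by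
    rw [← Nat.card_eq_fintype_card, GaloisField.card 2 2 two_ne_zero]; rfl
  obtain ⟨φ⟩ := Agent.S0380.result none (some 0) (some 1) (by decide) (by decide) (by decide) _ c
  let j : ↥(MulAction.stabilizer M24 (none : GolayPt) ⊓ MulAction.stabilizer M24 (some 0 : GolayPt) ⊓
      MulAction.stabilizer M24 (some 1 : GolayPt)) →* Spor.M22 :=
    (M24.subtype.comp (Subgroup.subtype _)).codRestrict _ fun x => ⟨⟨x.1.2, x.2.1.1⟩, x.2.1.2⟩
  have hj : Function.Injective j := fun x y e => Subtype.ext (Subtype.ext (congrArg (fun z : Spor.M22 => z.1) e))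
  obtain ⟨M', h', ⟨e'⟩⟩ := h.sub e.some (f := j.comp φ.symm.toMonoidHom) (hj.comp φ.symm.injective)
  exact h'.no_L34 c e'

/-- `M22 ≤ M23`. -/
theorem Pre.no_M23 (h : Pre M) (e : Spor.IsoM23 M) : False := by
  obtain ⟨M', h', e'⟩ := h.sub e.some
    (Subgroup.inclusion_injective (show Spor.M22 ≤ Spor.M23 from inf_le_left))
  exact h'.no_M22 e'

omit [IsAlgClosed K] in
theorem sp_alt (h2 : (2 : K) ≠ 0) {n : ℕ} (hn : 8 ≤ n) (g : alternatingGroup (Fin n) →* PSL(2, K)) : g = 1 := by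
  have := alternatingGroup.isSimpleGroup (α := Fin n) (by rw [Nat.card_fin]; omega)
  rcases this.eq_bot_or_eq_top_of_normal g.ker inferInstance with e | e
  swap
  · exact MonoidHom.ker_eq_top_iff.1 e
  let j : alternatingGroup (Fin 8) →* alternatingGroup (Fin n) :=
    ((Equiv.Perm.viaEmbeddingHom (Fin.castLEEmb hn)).comp (Subgroup.subtype _)).codRestrict _ fun x => by
      have := Equiv.Perm.mem_alternatingGroup.1 x.2
      rw [Equiv.Perm.mem_alternatingGroup, MonoidHom.comp_apply, Equiv.Perm.viaEmbeddingHom_apply, Equiv.Perm.viaEmbedding]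
      convert (@Equiv.Perm.sign_extendDomain _ _ _ _ _ _ _ _ (fun _ => Classical.propDecidable _) _).trans this
      rfl
  have hj : Function.Injective (g.comp j) := ((MonoidHom.ker_eq_bot_iff g).1 e).comp fun x y e =>
    Subtype.ext (Equiv.Perm.viaEmbeddingHom_injective _ (congrArg Subtype.val e))
  generalize g.comp j = f at hj
  let a : alternatingGroup (Fin 8) := ⟨Equiv.swap 0 1 * Equiv.swap 2 3, Equiv.Perm.mem_alternatingGroup.2 (by decide)⟩
  let b : alternatingGroup (Fin 8) := ⟨Equiv.swap 4 5 * Equiv.swap 6 7, Equiv.Perm.mem_alternatingGroup.2 (by decide)⟩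
  let x : alternatingGroup (Fin 8) := ⟨Equiv.swap 0 1 * Equiv.swap 4 5, Equiv.Perm.mem_alternatingGroup.2 (by decide)⟩
  have := f3_four h2 (a := f a) (b := f b) (x := f x) (by rw [← map_mul, show a * a = 1 by decide, map_one])
    (by rw [← map_mul, show b * b = 1 by decide, map_one]) ((map_ne_one_iff _ hj).2 (by decide))
    ((map_ne_one_iff _ hj).2 (by decide)) (hj.ne (by decide)) (Commute.map (show a * b = b * a by decide) f)
    (Commute.map (show x * a = a * x by decide) f) (Commute.map (show x * b = b * x by decide) f)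
  rw [← map_mul, map_eq_one_iff _ hj, hj.eq_iff, hj.eq_iff, hj.eq_iff] at this
  exact absurd this (by decide)

theorem sp_two {X : Type*} [Group X] {Z : Subgroup X} (h : Nat.card Z = 2) {t : X} (ht : t ∈ Z) (h1 : t ≠ 1) :
    t * t = 1 ∧ ∀ z ∈ Z, z = 1 ∨ z = t := by
  obtain ⟨y, -, hy⟩ := (Nat.card_eq_two_iff' (1 : Z)).1 h
  have k : ∀ z ∈ Z, z = 1 ∨ z = t := fun z hz => or_iff_not_imp_left.2 fun n => congrArg Subtype.val
    ((hy ⟨z, hz⟩ fun e => n (congrArg Subtype.val e)).trans (hy ⟨t, ht⟩ fun e => h1 (congrArg Subtype.val e)).symm)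
  exact ⟨(k _ (mul_mem ht ht)).resolve_right fun e => h1 (mul_eq_left.1 e), k⟩

theorem sp_cover (h : Pre M) {X : Type*} [Group X] (f : X →* O (Q K)) (hf : Function.Injective f) (hM : ∀ x, f x ∈ M)
    {n : ℕ} (hn : 8 ≤ n) (e : IsNonsplitDoubleCover X (alternatingGroup (Fin n))) : False := by
  obtain ⟨h1, ⟨e⟩, h3⟩ := e
  let σ : X →* alternatingGroup (Fin n) := e.toMonoidHom.comp (QuotientGroup.mk' _)
  have hs : Function.Surjective σ := e.surjective.comp (QuotientGroup.mk'_surjective _)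
  have hk : σ.ker = Subgroup.center X := by
    rw [← MonoidHom.comap_ker, (MonoidHom.ker_eq_bot_iff _).2 e.injective, MonoidHom.comap_bot, QuotientGroup.ker_mk']
  have hp : commutator X ⊔ Subgroup.center X = ⊤ := by
    rw [← hk, ← Subgroup.comap_map_eq, map_commutator_eq, MonoidHom.range_eq_top.2 hs]
    exact congrArg (Subgroup.comap σ) (commutator_alternatingGroup_eq_top (by rw [Nat.card_fin]; omega))
  have : Fact (Nat.card (Subgroup.center X)).Prime := ⟨h1 ▸ Nat.prime_two⟩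
  have hc : commutator X = ⊤ := by
    rw [← hp, eq_comm, sup_eq_left]
    refine Subgroup.subgroupOf_eq_top.1
      (((commutator X).subgroupOf (Subgroup.center X)).eq_bot_or_eq_top_of_prime_card.resolve_left fun k => ?_)
    refine h3 _ (Subgroup.isComplement'_of_disjoint_and_mul_eq_univ (Subgroup.subgroupOf_eq_bot.1 k).symm ?_)
    rw [← Subgroup.normal_mul, sup_comm, hp, Subgroup.coe_top]
  obtain ⟨⟨t, ht⟩, t1, -⟩ := (Nat.card_eq_two_iff' (1 : Subgroup.center X)).1 h1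
  replace t1 : t ≠ 1 := fun e => t1 (Subtype.ext e)
  obtain ⟨t2, hz⟩ := sp_two h1 ht t1
  have hD : ⁅f.range, f.range⁆ = f.range := by
    rw [← map_commutator_eq, hc, MonoidHom.range_eq_map]
  have cD : ∀ x ∈ f.range, Commute x (f t) := by
    rintro _ ⟨x, rfl⟩
    exact Commute.map (Subgroup.mem_center_iff.1 ht x) f
  have t2' : f t * f t = 1 := by rw [← map_mul, t2, map_one]
  obtain ⟨k, ek⟩ := exists_conj_t0 h.two t2' (h.dm_of_meta (hM t) t2' ((map_ne_one_iff _ hf).2 t1) cD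
    (by rw [hD, hD]; exact ⟨t, rfl⟩))
  obtain ⟨fA, fB, fC, F⟩ := exists_F3 h.two
  obtain ⟨ψ, hψ⟩ := f3_hom h.two ek hD cD
  have i : ∀ x, (fA (ψ (f.rangeRestrict x)) = 1 ∧ fB (ψ (f.rangeRestrict x)) = 1 ∧ fC (ψ (f.rangeRestrict x)) = 1) ↔
      x = 1 ∨ x = t := fun x => by
    rw [F.ker, Subtype.ext_iff, hψ, ← ek, Subgroup.coe_one, conj_eq_one_iff, mul_left_inj, mul_right_inj,
      MonoidHom.coe_rangeRestrict, map_eq_one_iff _ hf, hf.eq_iff]
  have j : ∀ g : X →* PSL(2, K), (∀ x, x = 1 ∨ x = t → g x = 1) → ∀ x, g x = 1 := fun g hg x => by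
    have l : σ.ker ≤ g.ker := fun z m => hg z (hz z (hk.le m))
    rw [← σ.liftOfRightInverse_comp_apply _ (Function.rightInverse_surjInv hs) ⟨g, l⟩ x, sp_alt h.two hn
      (σ.liftOfRightInverse _ (Function.rightInverse_surjInv hs) ⟨g, l⟩), MonoidHom.one_apply]
  have all : ∀ x, x = 1 ∨ x = t := fun x => (i x).1
    ⟨j (fA.comp (ψ.comp f.rangeRestrict)) (fun y m => ((i y).2 m).1) x,
      j (fB.comp (ψ.comp f.rangeRestrict)) (fun y m => ((i y).2 m).2.1) x,
      j (fC.comp (ψ.comp f.rangeRestrict)) (fun y m => ((i y).2 m).2.2) x⟩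
  refine h3 ⊥ (Subgroup.isComplement'_bot_right.2 (eq_top_iff.2 fun x _ => ?_))
  rcases all x with rfl | rfl
  exacts [one_mem _, ht]

/-- A perfect group `C = 2·A_n`, `n ≥ 8`, with central involution `t` (type four: `Pre.dm_of_meta`): `C / ⟨t⟩` is simple, so embeds by one of `fA fB fC` (`F3.ker`) in `PSL₂(K)`,
but `A_n` contains an `E₈` (`card_le_four`). -/
theorem Pre.no_cover (h : Pre M) {n : ℕ} (hn : 8 ≤ n) (e : IsNonsplitDoubleCover M (alternatingGroup (Fin n))) :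
    False := by
  exact sp_cover h M.subtype Subtype.val_injective (fun x => x.2) hn e

/-- S2132, `Pre.sub`, `Pre.no_cover`. -/
theorem Pre.no_McL (h : Pre M) (e : Spor.IsoMcL M) : False := by
  obtain ⟨e⟩ := e
  obtain ⟨-, t, -, c⟩ := Agent.S2132.result
  exact sp_cover h ((emb e).comp (Subgroup.subtype _)) ((emb_injective e).comp Subtype.val_injective)
    (fun _ => emb_mem e _) le_rfl c

set_option maxRecDepth 100000 in
theorem sp_ly : ∃ (X : Type) (_ : Group X) (f : X →* Spor.Ly), Function.Injective f ∧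
    IsNonsplitDoubleCover X (alternatingGroup (Fin 11)) := by
  obtain ⟨ρ, h⟩ := Ly.exists_lift Ly.relsM
  have := Nat.finite_of_card_ne_zero (Agent.S1702.result.2.trans_ne (by decide))
  obtain ⟨e⟩ : Nonempty (Spor.Ly ≃* Ly.GM) := ⟨.ofBijective ρ ((MonoidHom.range_eq_top.1
    (Ly.topM _ fun c hc => ⟨_, h c hc⟩)).bijective_of_nat_card_le (Agent.S1702.result.2.trans Ly.isLy_GM.2.symm).le)⟩
  obtain ⟨t, ht⟩ : ∃ t : Ly.GM, IsNonsplitDoubleCover (Subgroup.centralizer {t}) (alternatingGroup (Fin 11)) :=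
    ⟨_, Ly.doubleT.2⟩
  exact ⟨_, _, e.symm.toMonoidHom.comp (Subgroup.subtype _), e.symm.injective.comp Subtype.val_injective, ht⟩

/-- `Lib.Ly.doubleT` (or S0454 / S1710), `Pre.no_cover`. -/
theorem Pre.no_Ly (h : Pre M) (e : Spor.IsoLy M) : False := by
  obtain ⟨e⟩ := e
  obtain ⟨X, _, f, hf, c⟩ := sp_ly
  exact sp_cover h ((emb e).comp f) ((emb_injective e).comp hf) (fun _ => emb_mem e _) (by norm_num) c

omit [IsAlgClosed K] in
/-- If `x ∈ Cz ⊓ M`, `t0 ∈ M`, `fB x = fC x = 1 ≠ fA x`, `(fA x)² = 1` then `x = phi (psi3 (A, ± 1, ± 1))`, `A² = -1`: `x` or `x t0` is an involution with `dm = 6`. -/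
theorem F3.not_A {fA fB fC : Cz K →* PSL(2, K)} (F : F3 fA fB fC) (h : Pre M) (ht : t0 K ∈ M) {x : Cz K} (hx : x.1 ∈ M)
    (hB : fB x = 1) (hC : fC x = 1) (hA : fA x * fA x = 1) : fA x = 1 := by
  by_contra n
  have h2 := h.two
  obtain ⟨⟨A, B, C⟩, e⟩ := x.2
  obtain ⟨i, j, k⟩ := F _ x e.symm
  rw [j, mk_eq_one] at hB
  rw [k, mk_eq_one] at hC
  rw [i] at hA n
  have a2 : A * A = -1 := f3_sq h2 hA n
  have m : phi (psi3 (A, 1, -1)) ∈ M := by
    have e1 : phi (psi3 (A, 1, -1)) = x.1 * phi (psi3 (1, B, -C)) := by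
      rw [← e, MonoidHom.comp_apply, ← map_mul, ← map_mul]
      rcases hB with rfl | rfl <;> rcases hC with rfl | rfl <;> simp
    rw [e1]
    refine mul_mem hx ?_
    rcases hB with hB | hB <;> rcases hC with hC | hC
    · rw [(phi_psi3_eq_t0 (a := (1, B, -C))).2 ⟨.inl rfl, .inl ⟨hB, congrArg Neg.neg hC⟩⟩]; exact ht
    · rw [(phi_psi3_eq_one (a := (1, B, -C))).2 ⟨.inl rfl, .inl ⟨hB, neg_eq_iff_eq_neg.2 hC⟩⟩]; exact one_mem _
    · rw [(phi_psi3_eq_one (a := (1, B, -C))).2 ⟨.inl rfl, .inr ⟨hB, congrArg Neg.neg hC⟩⟩]; exact one_mem _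
    · rw [(phi_psi3_eq_t0 (a := (1, B, -C))).2 ⟨.inl rfl, .inr ⟨hB, neg_eq_iff_eq_neg.2 hC⟩⟩]; exact ht
  have s2 : phi (psi3 (A, 1, -1)) * phi (psi3 (A, 1, -1)) = 1 := by
    rw [← map_mul, ← map_mul]
    exact phi_psi3_eq_one.2 ⟨.inr a2, .inl ⟨mul_one _, by simp⟩⟩
  have tr : A.1.trace = 0 := by
    have d := PSL2.sl_det A
    have f : ∀ i j, A i 0 * A 0 j + A i 1 * A 1 j = (-1 : SL(2, K)) i j := fun i j => by
      rw [← a2]; exact ((mul_apply (M := A.1) (N := A.1)).trans (Fin.sum_univ_two _)).symm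
    have f0 := f 0 0
    have f1 := f 1 1
    simp only [Matrix.SpecialLinearGroup.coe_neg, Matrix.SpecialLinearGroup.coe_one, Matrix.neg_apply, one_apply_eq] at f0 f1
    rw [trace_fin_two]
    exact pow_eq_zero_iff two_ne_zero |>.1 (by linear_combination f0 + f1 + 2 * d)
  have c1 := chi_psi3 (A, 1, -1)
  rw [chi_of_inv h2 s2, finrank_V, tr] at c1
  simp only [Matrix.SpecialLinearGroup.coe_neg, Matrix.SpecialLinearGroup.coe_one, trace_neg, trace_one, Fintype.card_fin] at c1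
  rcases h.dm_inv m s2 (fun e => n (mk_eq_one.2 (phi_psi3_eq_one.1 e).1)) with d | d <;> rw [d] at c1 <;> push_cast at c1
  · exact mul_ne_zero h2 (mul_ne_zero h2 h2) (by linear_combination c1)
  · exact mul_ne_zero h2 h2 (by linear_combination c1)

omit [IsAlgClosed K] in
theorem sp_norm (h2 : (2 : K) ≠ 0) {L E : Subgroup PSL(2, K)} [Finite E] (hL : ⁅L, L⁆ = L) (l : L ≠ ⊥)
    (h : ∀ x ∈ E, x * x = 1) (hn : ∀ g ∈ L, ∀ x ∈ E, g * x * g⁻¹ ∈ E) : E = ⊥ := by
  have n : L ≤ Subgroup.normalizer (E : Set PSL(2, K)) := fun g m => Subgroup.mem_normalizer_iff.2 fun x =>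
    ⟨hn g m x, fun i => by simpa [mul_assoc] using hn _ (inv_mem m) _ i⟩
  have := Fintype.ofFinite E
  obtain ⟨ι⟩ : Nonempty (E ↪ Fin 4) := Function.Embedding.nonempty_of_card_le (by
    rw [← Nat.card_eq_fintype_card, Fintype.card_fin]; exact card_le_four h2 h)
  let φ := (Equiv.Perm.viaEmbeddingHom ι).comp ((MulAut.toPerm E).comp (E.normalizerMonoidHom.comp (Subgroup.inclusion n)))
  have := PSL2.isSolvable_perm_four
  have := Subgroup.isPerfect_iff.2 hL
  have r : φ.range = ⊥ := by_contra fun r =>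
    (Group.IsSolvable.commutator_lt_of_ne_bot r).ne (Subgroup.isPerfect_iff.1 (Group.IsPerfect.range φ))
  refine le_bot_iff.1 fun x m => eq_one_of_perfect h2 hL l fun y i => ?_
  have := Equiv.Perm.viaEmbeddingHom_injective ι ((r.le ⟨⟨y, i⟩, rfl⟩).trans (map_one _).symm)
  exact mul_inv_eq_iff_eq_mul.1 (congrArg Subtype.val (DFunLike.congr_fun this ⟨x, m⟩) :)

section ES

variable {X : Type*} [Group X] {P : Subgroup X} {t : X} (ht : ∀ x, x * t = t * x) (t2 : t * t = 1)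
  (hz : ∀ x ∈ P, (∀ y ∈ P, x * y = y * x) → x = 1 ∨ x = t) (hc : ∀ x ∈ P, ∀ y ∈ P, x * y = y * x ∨ x * y = t * (y * x))
include ht t2

theorem sp_anti {x y z : X} (h1 : x * z = t * (z * x)) (h2 : y * z = t * (z * y)) : x * y * z = z * (x * y) := by
  rw [mul_assoc, h2, ← mul_assoc, ht, mul_assoc, ← mul_assoc x, h1, mul_assoc, ← mul_assoc t, t2, one_mul, mul_assoc]

include hz hc

theorem sp_sq {x : X} (hx : x ∈ P) : x * x = 1 ∨ x * x = t := hz _ (mul_mem hx hx) fun y hy => by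
  rcases hc x hx y hy with e | e
  · rw [mul_assoc, e, ← mul_assoc, e, mul_assoc]
  · exact sp_anti ht t2 e e

theorem sp_q8 [Finite P] (c : 8 < Nat.card P) : ∃ a ∈ P, ∃ b ∈ P, a * a = t ∧ b * b = t ∧ a * b * (a * b) = t := by
  classical
  have big : ∀ x y : X, ¬ ∀ p ∈ P, ∃ u ∈ ({1, t} : Finset X), ∃ v ∈ ({1, x} : Finset X), ∃ w ∈ ({1, y} : Finset X),
      p = u * (v * w)⁻¹ := fun x y k => by
    have := Set.ncard_le_ncard (s := (P : Set X)) (t := ((({1, t} : Finset X) ×ˢ ({1, x} : Finset X) ×ˢ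
      ({1, y} : Finset X)).image fun a => a.1 * (a.2.1 * a.2.2)⁻¹ : Finset X)) (fun p hp => by
        obtain ⟨u, hu, v, hv, w, hw, e⟩ := k p hp
        exact Finset.mem_coe.2 (Finset.mem_image.2 ⟨(u, v, w), Finset.mem_product.2 ⟨hu, Finset.mem_product.2 ⟨hv, hw⟩⟩,
          e.symm⟩))
    rw [Set.ncard_coe_finset] at this
    have h1 := this.trans Finset.card_image_le
    rw [Finset.card_product, Finset.card_product] at h1
    have h2 := h1.trans (Nat.mul_le_mul Finset.card_le_two (Nat.mul_le_mul Finset.card_le_two Finset.card_le_two))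
    exact absurd (lt_of_lt_of_le c h2) (by decide)
  obtain ⟨x, hx, y, hy, e⟩ : ∃ x ∈ P, ∃ y ∈ P, x * y = t * (y * x) := by
    by_contra! k
    exact big 1 1 fun p hp => ⟨p, by simpa using hz p hp fun y hy => (hc p hp y hy).resolve_right (k p hp y hy), 1, by simp,
      1, by simp, by simp⟩
  have e' : y * x = t * (x * y) := by rw [e, ← mul_assoc, t2, one_mul]
  have dec : ∀ p ∈ P, ∃ v ∈ ({1, x} : Finset X), ∃ w ∈ ({1, y} : Finset X),
      Commute (p * (v * w)) x ∧ Commute (p * (v * w)) y := fun p hp => by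
    rcases hc p hp x hx with e1 | e1 <;> rcases hc p hp y hy with e2 | e2
    · exact ⟨1, by simp, 1, by simp, by rw [mul_one, mul_one]; exact ⟨e1, e2⟩⟩
    · exact ⟨x, by simp, 1, by simp, by rw [mul_one]; exact ⟨Commute.mul_left e1 rfl, sp_anti ht t2 e2 e⟩⟩
    · exact ⟨1, by simp, y, by simp, by rw [one_mul]; exact ⟨sp_anti ht t2 e1 e', Commute.mul_left e2 rfl⟩⟩
    · exact ⟨x, by simp, y, by simp, sp_anti ht t2 e1 (by rw [mul_assoc, e', ← mul_assoc, ht, mul_assoc]),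
        sp_anti ht t2 e2 (by rw [← mul_assoc y, ← mul_assoc t, ← mul_assoc t, mul_assoc t, ← e])⟩
  have mem : ∀ p ∈ P, ∀ v ∈ ({1, x} : Finset X), ∀ w ∈ ({1, y} : Finset X), p * (v * w) ∈ P := fun p hp v hv w hw => by
    simp only [Finset.mem_insert, Finset.mem_singleton] at hv hw
    refine mul_mem hp (mul_mem ?_ ?_)
    · rcases hv with rfl | rfl
      exacts [one_mem _, hx]
    · rcases hw with rfl | rfl
      exacts [one_mem _, hy]
  obtain ⟨c, hc', c2, cx, cy⟩ : ∃ c ∈ P, c * c = t ∧ Commute c x ∧ Commute c y := by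
    by_contra! k
    have s : ∀ c ∈ P, Commute c x → Commute c y → c * c = 1 := fun c m i j =>
      (sp_sq ht t2 hz hc m).resolve_right fun e => k c m e i j
    refine big x y fun p hp => ?_
    obtain ⟨v, hv, w, hw, i, j⟩ := dec p hp
    refine ⟨p * (v * w), ?_, v, hv, w, hw, (mul_inv_cancel_right _ _).symm⟩
    have m := mem p hp v hv w hw
    generalize p * (v * w) = c at i j m
    simp only [Finset.mem_insert, Finset.mem_singleton]
    refine hz c m fun q hq => ?_
    obtain ⟨v', hv', w', hw', i', j'⟩ := dec q hq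
    have m' := mem q hq v' hv' w' hw'
    have k1 : Commute c (q * (v' * w')) := by
      have := s _ (mul_mem m m') (i.mul_left i') (j.mul_left j')
      rw [Commute, SemiconjBy, eq_inv_of_mul_eq_one_right this, _root_.mul_inv_rev,
        inv_eq_of_mul_eq_one_right (s _ m i j), inv_eq_of_mul_eq_one_right (s _ m' i' j')]
    have k2 : Commute c (v' * w') := by
      simp only [Finset.mem_insert, Finset.mem_singleton] at hv' hw'
      refine Commute.mul_right ?_ ?_
      · rcases hv' with rfl | rfl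
        exacts [Commute.one_right _, i]
      · rcases hw' with rfl | rfl
        exacts [Commute.one_right _, j]
    have := k1.mul_right k2.inv_right
    rwa [mul_inv_cancel_right] at this
  have fin : ∀ a ∈ P, ∀ b ∈ P, a * a = t → a * b = t * (b * a) → Commute c a → Commute c b →
      ∃ a ∈ P, ∃ b ∈ P, a * a = t ∧ b * b = t ∧ a * b * (a * b) = t := fun a ha b hb a2 ab ca cb => by
    have q : ∀ b, b * b = t → a * b = t * (b * a) → a * b * (a * b) = t := fun b b2 ab => by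
      calc a * b * (a * b) = t * (b * (a * a) * b) := by nth_rewrite 1 [ab]; simp only [mul_assoc]
        _ = t := by rw [a2, ht, mul_assoc, b2, t2, mul_one]
    rcases sp_sq ht t2 hz hc hb with b2 | b2
    · have : b * c * (b * c) = t := by rw [cb.mul_mul_mul_comm, b2, c2, one_mul]
      exact ⟨a, ha, b * c, mul_mem hb hc', a2, this, q _ this (by
        rw [← mul_assoc, ab, mul_assoc, mul_assoc, ← ca.eq, mul_assoc])⟩
    · exact ⟨a, ha, b, hb, a2, b2, q _ b2 ab⟩
  rcases sp_sq ht t2 hz hc hx with x2 | x2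
  swap
  · exact fin x hx y hy x2 e cx cy
  rcases sp_sq ht t2 hz hc hy with y2 | y2
  swap
  · exact fin y hy x hx y2 e' cy cx
  refine fin (x * y) (mul_mem hx hy) x hx ?_ (by rw [mul_assoc, e', ← mul_assoc, ht, mul_assoc]) (cx.mul_right cy) cx
  rw [mul_assoc, ← mul_assoc y, e', mul_assoc, mul_assoc, y2, mul_one, ← mul_assoc, ht, mul_assoc, x2, mul_one]

end ES

theorem sp_ext (h : Pre M) {X : Type*} [Group X] (f : X →* O (Q K)) (hf : Function.Injective f) (hM : ∀ x, f x ∈ M)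
    {P : Subgroup X} [hN : P.Normal] (hP : IsExtraspecial 2 P) (c : Nat.card P = 32)
    {t : X} (ht : t ∈ Subgroup.center X) (h1 : t ≠ 1) (e : X ⧸ P ≃* alternatingGroup (Fin 5)) : False := by
  have h2 := h.two
  have := h.fin
  have : Finite X := .of_injective (f.codRestrict M hM) fun x y e => hf (congrArg Subtype.val e)
  let σ : X →* alternatingGroup (Fin 5) := e.toMonoidHom.comp (QuotientGroup.mk' _)
  have hs : Function.Surjective σ := e.surjective.comp (QuotientGroup.mk'_surjective _)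
  have hk : ∀ x, σ x = 1 ↔ x ∈ P := fun x => (map_eq_one_iff _ e.injective).trans (QuotientGroup.eq_one_iff x)
  have ht' := Subgroup.mem_center_iff.1 ht
  have tP : t ∈ P := (hk t).1 ((alternatingGroup.center_eq_bot (by simp)).le (Subgroup.mem_center_iff.2 fun y => by
    obtain ⟨x, rfl⟩ := hs y
    rw [← map_mul, ht', map_mul]))
  obtain ⟨t2, hz⟩ := sp_two hP.2 (t := ⟨t, tP⟩) (Subgroup.mem_center_iff.2 fun x => Subtype.ext (ht' x))
    fun e => h1 (congrArg Subtype.val e)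
  replace t2 : t * t = 1 := congrArg Subtype.val t2
  have hz' : ∀ x ∈ P, (∀ y ∈ P, x * y = y * x) → x = 1 ∨ x = t := fun x hx k =>
    (hz ⟨x, hx⟩ (Subgroup.mem_center_iff.2 fun y => Subtype.ext (k y y.2).symm)).imp (congrArg Subtype.val)
      (congrArg Subtype.val)
  have hc : ∀ x ∈ P, ∀ y ∈ P, x * y = y * x ∨ x * y = t * (y * x) := fun x hx y hy =>
    (hz _ (hP.1.2.2.le (Subgroup.commutator_mem_commutator (Subgroup.mem_top ⟨x, hx⟩) (Subgroup.mem_top ⟨y, hy⟩)))).imp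
      (fun e => commutatorElement_eq_one_iff_mul_comm.1 (congrArg Subtype.val e)) fun e => by
        have : x * y * x⁻¹ * y⁻¹ = t := congrArg Subtype.val e
        rw [← this]; group
  have sq : ∀ x ∈ P, x * x = 1 ∨ x * x = t := fun x hx => sp_sq ht' t2 hz' hc hx
  obtain ⟨a, -, b, -, a2, b2, ab⟩ := sp_q8 ht' t2 hz' hc (by omega)
  have t2' : f t * f t = 1 := by rw [← map_mul, t2, map_one]
  obtain ⟨k, ek⟩ := exists_conj_t0 h2 t2' (h.dm_of_q8 (a := f a) (b := f b) (hM t) t2' ((map_ne_one_iff _ hf).2 h1)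
    (by rw [← map_mul, a2]) (by rw [← map_mul, b2]) (by rw [← map_mul, ← map_mul, ab]))
  have h' := h.conj (phi k)
  let g : X →* O (Q K) := (MulAut.conj (phi k)).toMonoidHom.comp f
  have hg : Function.Injective g := (MulAut.conj (phi k)).injective.comp hf
  have gM : ∀ x, g x ∈ M.map (MulAut.conj (phi k)).toMonoidHom := fun x => ⟨_, hM x, rfl⟩
  have gt : g t = t0 K := ek
  generalize M.map (MulAut.conj (phi k)).toMonoidHom = M' at h' gM
  clear_value g
  have gc : ∀ x, Commute (g x) (t0 K) := fun x => gt ▸ Commute.map (ht' x) g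
  obtain ⟨fA, fB, fC, F⟩ := exists_F3 h2
  let Y : Subgroup X := (Cz K).comap g
  let ψ : Y →* Cz K := (g.comp Y.subtype).codRestrict _ fun x => x.2
  have i : ∀ x : Y, (fA (ψ x) = 1 ∧ fB (ψ x) = 1 ∧ fC (ψ x) = 1) ↔ x.1 = 1 ∨ x.1 = t := fun x => by
    rw [F.ker, Subtype.ext_iff, ← gt, ← map_eq_one_iff _ hg, ← hg.eq_iff]
    rfl
  have nA : ∀ x : Y, fB (ψ x) = 1 → fC (ψ x) = 1 → fA (ψ (x * x)) = 1 → fA (ψ x) = 1 := fun x i j k =>
    F.not_A h' (gt ▸ gM t) (gM x) i j (by rw [← map_mul, ← map_mul, k])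
  obtain ⟨D, hD, mD⟩ := wellFounded_lt.has_min {D : Subgroup X | D.map σ = ⊤} ⟨⊤, Subgroup.map_top_of_surjective _ hs⟩
  have pD : ⁅D, D⁆ = D := (Subgroup.commutator_le_self D).eq_of_not_lt (mD _ (by
    rw [Set.mem_ofPred_eq, Subgroup.map_commutator, hD]
    exact commutator_alternatingGroup_eq_top (by simp)))
  have DY : D ≤ Y := Subgroup.map_le_iff_le_comap.1 (perfect_le_Cz h2 (by rw [← Subgroup.map_commutator, pD]) (by
    rintro _ ⟨x, -, rfl⟩
    exact gc x))
  have c16 : 16 ≤ Nat.card (P.subgroupOf Y) := by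
    have : (Y.subgroupOf P).index ∣ 2 := Subgroup.index_dvd_two_iff.2 (by
      by_cases k : ∃ a : P, a.1 ∉ Y
      · obtain ⟨a, n⟩ := k
        exact ⟨a, fun b => or_iff_not_imp_right.2 fun n' => (congrArg (· ∈ Cz K) (map_mul g b.1 a.1)).mpr
          (mul_mem_Cz h2 (h'.det _ (gM _)) (h'.det _ (gM _)) (gc _) (gc _) n' n)⟩
      · exact ⟨1, fun b => .inr (by_contra fun n => k ⟨b, n⟩)⟩)
    have k1 := Nat.le_of_dvd two_pos this
    have k2 := (Y.subgroupOf P).card_mul_index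
    have k3 : Nat.card (Y.subgroupOf P) = Nat.card (P.subgroupOf Y) := by
      rw [← Subgroup.card_map_of_injective (f := P.subtype) Subtype.val_injective,
        ← Subgroup.card_map_of_injective (f := Y.subtype) Subtype.val_injective, Subgroup.subgroupOf_map_subtype,
        Subgroup.subgroupOf_map_subtype, inf_comm]
    rw [c, k3] at k2
    nlinarith
  have el : ∀ F' : Y →* PSL(2, K), (∀ x : Y, x.1 = 1 ∨ x.1 = t → F' x = 1) → ∀ x ∈ (P.subgroupOf Y).map F', x * x = 1 := by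
    rintro F' k _ ⟨x, m, rfl⟩
    exact (map_mul ..).symm.trans (k _ (sq x m))
  have tr : ∀ F' : Y →* PSL(2, K), (∀ x : Y, x.1 = 1 ∨ x.1 = t → F' x = 1) →
      (∀ x : Y, x.1 ∈ D → F' x = 1) ∨ ∀ x : Y, x.1 ∈ P → F' x = 1 := fun F' k => by
    by_cases r : (D.subgroupOf Y).map F' = ⊥
    · exact .inl fun x m => r.le ⟨x, m, rfl⟩
    have : Finite ((P.subgroupOf Y).map F') := .of_surjective _ (F'.subgroupMap_surjective _)
    refine .inr fun x m => (sp_norm h2 (E := (P.subgroupOf Y).map F') ?_ r (el F' k) ?_).le ⟨x, m, rfl⟩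
    · rw [← Subgroup.map_commutator]
      congr 1
      apply Subgroup.map_injective Y.subtype_injective
      rw [Subgroup.map_commutator, Subgroup.subgroupOf_map_subtype, inf_eq_left.2 DY, pD]
    · rintro _ ⟨u, -, rfl⟩ _ ⟨y, m, rfl⟩
      exact ⟨u * y * u⁻¹, hN.conj_mem _ m _, by rw [map_mul, map_mul, map_inv]⟩
  have no : ∀ F' : Y →* PSL(2, K), (∀ x : Y, x.1 = 1 ∨ x.1 = t → F' x = 1) →
      ¬ ∀ x : Y, x.1 ∈ P → F' x = 1 → x.1 = 1 ∨ x.1 = t := fun F' k k' => by
    classical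
    let φ := F'.comp (P.subgroupOf Y).subtype
    have : Finite φ.range := .of_surjective _ φ.rangeRestrict_surjective
    have k1 : Nat.card φ.range ≤ 4 := card_le_four h2 (by
      rintro _ ⟨x, rfl⟩
      exact el F' k _ ⟨x, x.2, rfl⟩)
    have k2 : Nat.card φ.ker ≤ 2 := by
      refine (Nat.card_le_card_of_injective (β := ({1, t} : Finset X)) (fun x => ⟨x.1.1.1, by
        simpa using k' _ x.1.2 x.2⟩) fun x y e => Subtype.ext (Subtype.ext (Subtype.ext (Subtype.mk.inj e)))).trans ?_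
      rw [Nat.card_eq_finsetCard]
      exact Finset.card_le_two
    have k3 := φ.ker.card_mul_index
    rw [Subgroup.index_ker] at k3
    nlinarith
  have kA := fun (x : Y) m => ((i x).2 m).1
  have kB := fun (x : Y) m => ((i x).2 m).2.1
  have kC := fun (x : Y) m => ((i x).2 m).2.2
  rcases tr (fB.comp ψ) kB with rB | rB
  swap
  · exact no (fC.comp ψ) kC fun x m k => (i x).1 ⟨nA x (rB x m) k (kA _ (sq x m)), rB x m, k⟩
  rcases tr (fC.comp ψ) kC with rC | rC
  swap
  · exact no (fB.comp ψ) kB fun x m k => (i x).1 ⟨nA x k (rC x m) (kA _ (sq x m)), k, rC x m⟩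
  let s : alternatingGroup (Fin 5) := ⟨Equiv.swap 0 1 * Equiv.swap 2 3, Equiv.Perm.mem_alternatingGroup.2 (by decide)⟩
  obtain ⟨d, hd, ed⟩ := hD.ge (Subgroup.mem_top s)
  have d2 : d * d ∈ P := (hk _).1 (by rw [map_mul, ed]; decide)
  let d' : Y := ⟨d, DY hd⟩
  have := (i d').1 ⟨nA d' (rB _ hd) (rC _ hd) (nA _ (rB _ (mul_mem hd hd)) (rC _ (mul_mem hd hd)) (kA _ (sq _ d2))),
    rB _ hd, rC _ hd⟩
  refine absurd (ed.symm.trans ((hk d).2 ?_)) (by decide)
  rcases this with e | e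
  · exact (show d = 1 from e) ▸ one_mem _
  · exact (show d = t from e) ▸ tP

/-- `t ∈ P` (`A₅` has trivial centre), `Z(P) = ⟨t⟩`, `t` has type four (`P ⊇ Q₈`, or `t ∈ M''`); conjugate it to `t0`.  `D = M^∞` (last term of the derived series, `D P = M`) is perfect and `≠ 1`;
`no_two_core` for `E = D ⊓ P` gives `D ⊓ P ≤ ⟨t⟩`, so `⁅D, P⁆ ≤ ⟨t⟩` and `D` centralises `P` (three subgroups).  `P° = P ⊓ Cz` has index `≤ 2` in `P` (`mul_mem_Cz`), so `|P° / ⟨t⟩| ≥ 8`, and `P°` is trivial in every factor in which `D` is not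
(`eq_one_of_perfect`); by `card_le_four`, `F3.ker` there is exactly one such factor.  If it is `fA`: take `s ∈ D ∖ ⟨t⟩` with `s² ∈ ⟨t⟩`, `F3.not_A`.  If it is `fB` (or `fC`): the kernel of `fC` on `P°` is not contained in `⟨t⟩`, `F3.not_A`. -/
theorem Pre.no_ext (h : Pre M) {P : Subgroup M} [P.Normal] (hP : IsExtraspecial 2 P) (c : Nat.card P = 32)
    {t : M} (ht : t ∈ Subgroup.center M) (h1 : t ≠ 1) (e : M ⧸ P ≃* alternatingGroup (Fin 5)) : False := by
  exact sp_ext h M.subtype Subtype.val_injective (fun x => x.2) hP c ht h1 e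

/-- S1623 (resp. S2135), `Pre.sub` for `C(t)`, `Pre.no_ext`. -/
theorem Pre.no_J2 (h : Pre M) (e : Spor.IsoJ2 M) : False := by
  have e' := e.some.trans J2.eJ
  have := h.fin
  have : Finite J2.hj := .of_equiv _ e'.toEquiv
  have : Finite (Leech.gp1 J2.cL) := .of_equiv _ J2.eC.toEquiv
  have := J2.btw_q.normal
  obtain ⟨hn, s⟩ := J2.sh4_c.map J2.eC.symm
  refine sp_ext h ((emb e').comp (Subgroup.subtype _)) ((emb_injective e').comp Subtype.val_injective)
    (fun _ => emb_mem e' _) s.es s.card (t := ⟨J2.zz, Subgroup.mem_centralizer_singleton_iff.2 rfl⟩)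
    (Subgroup.mem_center_iff.2 fun g => Subtype.ext (Subgroup.mem_centralizer_singleton_iff.1 g.2)) (fun k => ?_) s.quot.some
  have i := J2.index_cen
  rw [show J2.zz = 1 from congrArg Subtype.val k, Subgroup.centralizer_eq_top_iff_subset.2 (by simp),
    Subgroup.index_top] at i
  exact absurd i (by decide)

theorem Pre.no_J3 (h : Pre M) (e : Spor.IsoJ3 M) : False := by
  obtain ⟨F, _, _, ω, hF, hω, ⟨e⟩⟩ := e
  obtain ⟨-, t, o, P, _, h1, h2, -, -, ⟨q⟩⟩ := Agent.S2135.result hF ω hω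
  refine sp_ext h ((emb e).comp (Subgroup.subtype _)) ((emb_injective e).comp Subtype.val_injective)
    (fun _ => emb_mem e _) h1 h2 (t := ⟨t, Subgroup.mem_centralizer_singleton_iff.2 rfl⟩)
    (Subgroup.mem_center_iff.2 fun g => Subtype.ext (Subgroup.mem_centralizer_singleton_iff.1 g.2)) (fun k => ?_) q
  rw [show t = 1 from congrArg Subtype.val k, orderOf_one] at o
  exact absurd o (by decide)

/-- a word in two generators -/
def spW {G : Type*} [Group G] (a b : G) (w : List ℕ) : G := (w.map fun i => if i = 0 then a else b).prod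

/-- its binary matrix -/
noncomputable def spV (A B : ℕ) (w : List ℕ) : ℕ :=
  List.rec (F2.idM 20) (fun i _ ih => Calc.forceN ih fun Y => F2.mmul 20 (Nat.rec A (fun _ _ => B) i) Y) w

theorem sp_app {G : Type*} [Group G] {a b : G} (u v : List ℕ) : spW a b (u ++ v) = spW a b u * spW a b v := by
  rw [spW, List.map_append, List.prod_append]; rfl

theorem sp_mem {G : Type*} [Group G] (a b : G) (w : List ℕ) : spW a b w ∈ Subgroup.closure {a, b} :=
  list_prod_mem fun x hx => by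
    obtain ⟨i, -, rfl⟩ := List.mem_map.1 hx
    exact Subgroup.subset_closure (by split_ifs <;> simp)

theorem sp_rep {a b : Spor.J1} {A B : ℕ} (ha : F2.LRep 20 J1.cv a A) (hb : F2.LRep 20 J1.cv b B) (w : List ℕ) :
    F2.LRep 20 J1.cv (spW a b w) (spV A B w) := by
  induction w with
  | nil => exact F2.LRep.one J1.cv_lt
  | cons i w ih =>
    rw [show spV A B (i :: w) = F2.mmul 20 (Nat.rec A (fun _ _ => B) i) (spV A B w) from Calc.forceN_eq _ _]
    cases i
    exacts [ha.mul ih, hb.mul ih]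

theorem sp_top {a b x : Spor.J1} {A B C : ℕ} (ha : F2.LRep 20 J1.cv a A) (hb : F2.LRep 20 J1.cv b B)
    (hx : F2.LRep 20 J1.cv x C) (w : List ℕ) (e : spV A B w = C) : x ∈ Subgroup.closure {a, b} :=
  (sp_rep ha hb w).eq_of_ker J1.coded J1.ker_eq (e ▸ hx) ▸ sp_mem a b w

/-- an involution of `J₁` -/
def spA : ℕ := 0x003f13c588a8bc397fad5c427ba66a0793b175a73554e6fd149e4c76115918c6a2156d0a4455e9628f604074fb3547c121be
/-- an element of order three -/
def spB : ℕ := 0xc8f1dd6e525b5538eb27b02e799fefc566017ed61a820f82f6d15dd97d8f9821f57fb37684a63d0f631bb1ac88055f0138e2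

/-- `Rep.hur'` with standard generators `a² = b³ = (a b)⁷ = 1` (words in `jankoX`, `jankoY` and back; Lib.J1, Lib.J1S, Lib.J11 contain presentations / permutation models), `m = 2` (`7 : 6`), one class of involutions, `C(t) = 2 × A₅` (S2131) contains `s`, `t` for one element of order three,
and all subgroups of order three are conjugate (Sylow, `|J₁| = 175560`).  Or `Rep.hur`: `dm a = 4` by `Pre.dm_of_eight`, `dm b = 4` by `Four.dm_rho`. -/
theorem Rep.no_J1 (h : Rep M) (e : Spor.IsoJ1 M) : False := by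
  obtain ⟨e⟩ := e
  obtain ⟨a, b, ha, hb⟩ : ∃ a b : Spor.J1, F2.LRep 20 J1.cv a spA ∧ F2.LRep 20 J1.cv b spB :=
    ⟨_, _, (show spV J1.xM J1.yM [1, 1, 1, 1, 0, 1, 0] = spA by decide +kernel) ▸ sp_rep J1.lrep_x J1.lrep_y _,
      (show spV J1.xM J1.yM [0, 1, 0, 1, 0, 1, 0, 0] = spB by decide +kernel) ▸ sp_rep J1.lrep_x J1.lrep_y _⟩
  have top : Subgroup.closure {a, b} = ⊤ := eq_top_iff.2 (J1.closure_xy ▸ (Subgroup.closure_le _).2 (by
    rintro _ (rfl | rfl)
    · exact sp_top ha hb J1.lrep_x [1, 0, 1, 1, 0, 1, 0, 1, 1, 0, 1, 0, 1, 0, 1, 1, 0, 1, 0, 1, 0, 1, 1, 0, 1, 1, 0, 1, 0, 1, 0, 1, 1, 0, 1, 1, 0, 1, 0, 1, 1, 0, 1, 0, 1, 1, 0]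
        (by decide +kernel)
    · exact sp_top ha hb J1.lrep_y [1, 1, 0, 1, 0, 1, 1, 0, 1, 1, 0, 1, 0, 1, 0, 1, 1, 0, 1, 0, 1, 1, 0, 1, 1, 0, 1, 0, 1, 0, 1, 0]
        (by decide +kernel)))
  have k : ∀ u v, spV spA spB u = spV spA spB v → spW a b u = spW a b v := fun u v e =>
    (sp_rep ha hb u).eq_of_ker J1.coded J1.ker_eq (e ▸ sp_rep ha hb v)
  have cj : ∀ u x y, spV spA spB (u ++ x) = spV spA spB (y ++ u) → IsConj (emb e (spW a b x)) (emb e (spW a b y)) :=
    fun u x y q => (emb e).map_isConj (isConj_iff.2 ⟨spW a b u, by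
      rw [mul_inv_eq_iff_eq_mul, ← sp_app, ← sp_app, k _ _ q]⟩)
  let s := [0, 1, 0, 1, 1, 0, 1, 1, 0, 1, 0, 1, 0, 1, 1, 0, 1, 0, 1, 0, 1, 1, 0, 1, 0, 1, 1, 0, 1, 0, 1, 0, 1, 1, 0, 1, 0, 1, 1, 0]
  let t := [0, 1, 0, 1, 1, 0, 1, 1, 0, 1, 0, 1, 1, 0, 1, 0, 1, 0, 1, 1, 0, 1, 1, 0, 1, 0, 1, 1, 0, 1, 0, 1, 0, 1, 1, 0]
  have k1 := congrArg (emb e) (k [0, 0] [] (by decide +kernel))
  have k2 := congrArg (emb e) (k [1, 1, 1] [] (by decide +kernel))
  have k3 := congrArg (emb e) (k [0, 1, 0, 1, 0, 1, 0, 1, 0, 1, 0, 1, 0, 1] [] (by decide +kernel))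
  have k4 := congrArg (emb e) (k (s ++ s) [] (by decide +kernel))
  have k5 := congrArg (emb e) (k (t ++ t) [] (by decide +kernel))
  have k6 := congrArg (emb e) (k (t ++ ([1] ++ t ++ [1, 1])) ([1] ++ t ++ [1, 1] ++ t) (by decide +kernel))
  have k7 := congrArg (emb e) (k ([1] ++ ([1] ++ t ++ [1, 1]) ++ [1, 1]) (t ++ ([1] ++ t ++ [1, 1])) (by decide +kernel))
  have c1 := cj [0, 1, 0, 1, 1, 0, 1, 1, 0, 1, 0, 1, 0, 1, 1, 0, 1, 0, 1, 0, 1] [0] s (by decide +kernel)
  have c2 := cj [1, 0, 1, 0, 1, 1, 0, 1, 1, 0, 1, 0, 1, 0, 1, 1, 0, 1, 0, 1, 0, 1] [0] (s ++ [1]) (by decide +kernel)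
  have c3 := cj [0, 1, 0, 1, 1, 0, 1, 1, 0, 1, 0, 1, 1, 0, 1, 0, 1] [0] t (by decide +kernel)
  have c4 := cj [1, 0, 1, 1, 0, 1, 0, 1, 1, 0, 1, 0, 1, 0, 1, 1, 0, 1, 0, 1, 0, 1, 1, 0, 1, 0, 1, 1, 0, 1, 0, 1, 1, 0, 1, 0, 1, 0, 1, 1, 0, 1, 0, 1, 1, 0, 1, 0, 1, 0, 1, 0] [0, 1] [0, 1, 0, 1] (by decide +kernel)
  have n : emb e a ≠ 1 := (map_ne_one_iff _ (emb_injective e)).2
    (ha.ne' (J1.sur 20 (F2.idM 20)) (F2.LRep.one J1.cv_lt) (by decide +kernel))
  have hl : M = Subgroup.closure {emb e a, emb e b} := by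
    rw [← Set.image_pair, ← MonoidHom.map_closure, top, ← MonoidHom.range_eq_map, range_emb]
  have ma := emb_mem e a
  simp only [sp_app, map_mul] at k4 k5 k6 k7 c2
  generalize spW a b s = s at k4 c1 c2
  generalize spW a b t = t at k5 k6 k7 c3
  simp only [spW, List.map, List.prod_cons, List.prod_nil, mul_one, map_mul, map_one, if_true, one_ne_zero,
    if_false] at k1 k2 k3 k4 k5 k6 k7 c1 c2 c3 c4
  generalize emb e a = a, emb e b = b, emb e s = s, emb e t = t at *
  have b3 : b ^ 3 = 1 := by rw [pow_three, k2]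
  rw [eq_inv_of_mul_eq_one_right k2] at k6 k7
  have da : dm a = 4 := (h.dm_inv ma k1 n).resolve_left fun d => by
    refine h.irrV.not_three (a := a) (b := s) (c := s * b) (hl.le.trans ((Subgroup.closure_le _).2 ?_)) d
      ((dm_of_isConj c1).symm.trans d) ((dm_of_isConj c2).symm.trans d)
    have := mul_mem (Subgroup.subset_closure (k := {a, s, s * b}) (.inr (.inl rfl)))
      (Subgroup.subset_closure (.inr (.inr rfl)))
    rw [← mul_assoc, k4, one_mul] at this
    exact Set.insert_subset (Subgroup.subset_closure (.inl rfl)) (Set.singleton_subset_iff.2 this)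
  have ρ : Rho t (b * t * b⁻¹) b := ⟨b3, rfl, k7⟩
  exact h.hur hl k1 b3 da (.inr ((ρ.four h.two k5 k6 ((dm_of_isConj c3).symm.trans da)).dm_rho ρ)) (r := 7) (m := 2)
    (by norm_num) (by norm_num) (by simpa only [pow_succ, pow_zero, one_mul, mul_assoc] using k3)
    (.inr ⟨by norm_num, by simpa only [pow_succ, pow_zero, one_mul, mul_assoc] using c4⟩)

end Cfsg.Lib.O7
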